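import Mathlib
import Groth.Prelude.Def_DualFM
import Groth.Agent.Lib.Helper5.ProjF3.PerfPF
import Groth.Agent.Lib.Helper5.RGamPush.Main
import Groth.Agent.Lib.Helper5.LTen.Assoc3
import Groth.Agent.Lib.Helper5.LTen.DerInv

/-!
# Symmetry of the cohomology of Fourier–Mukai transforms (helper5)

`RΓ(X, Ψ_P(F) ⊗^L E) ≅ RΓ(Y, Φ_P(E) ⊗^L F)` for perfect `E`, `F`.
-/
set_option autoImplicit false
set_option linter.unusedSectionVars false
set_option linter.unusedVariables false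
set_option linter.style.haveILetI false
universe u
open CategoryTheory CategoryTheory.Limits Pretriangulated AlgebraicGeometry
attribute [local instance] HasDerivedCategory.standard

namespace Groth.Agent.Lib.Helper5.FMGamma

open Groth.Agent.Lib.Helper5.ProjF2 Groth.Agent.Lib.Helper5.ProjF3
  Groth.Agent.Lib.Helper5.ShriekProj Groth.Agent.Lib.Helper5.RGamPush

section Mid

variable {Z : Scheme.{u}} (P E' F' : CochainComplex Z.Modules ℤ)

/-- `(F' ⊗ P) ⊗ E' ≅ (E' ⊗ P) ⊗ F'` -/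
noncomputable def swapCx :
    (DCoh.tensorCx.obj ((DCoh.tensorCx.obj F').obj P)).obj E' ≅
      (DCoh.tensorCx.obj ((DCoh.tensorCx.obj E').obj P)).obj F' :=
  Groth.Agent.Lib.Helper5.TenAssoc.assocCx Z.sheaf F' P E' ≪≫
    braidCx F' ((DCoh.tensorCx.obj P).obj E') ≪≫
    (DCoh.tensorCx.mapIso (braidCx P E')).app F'

variable [DCoh.HasLTensorCx P] [DCoh.HasLTensorCx E'] [DCoh.HasLTensorCx F']

/-- `(A ⊗^L P) ⊗^L E'` for `A ≅ F'`, with `E'`, `F'` K-flat -/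
noncomputable def midIso (hE' : DCoh.IsKFlat E') (hF' : DCoh.IsKFlat F') (A : DCoh.D Z)
    (eA : A ≅ DerivedCategory.Q.obj F') :
    (DCoh.LTensorCx E').obj ((DCoh.LTensorCx P).obj A) ≅
      DerivedCategory.Q.obj ((DCoh.tensorCx.obj ((DCoh.tensorCx.obj F').obj P)).obj E') :=
  (DCoh.LTensorCx E').mapIso ((DCoh.LTensorCx P).mapIso eA ≪≫
    Groth.Agent.Lib.Helper5.LTenAll.ltensorObjIsoOfKFlat (E := P) F' hF') ≪≫
    Groth.Agent.Lib.Helper5.LTenDer.ltensorObjIso E' hE' _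

end Mid

variable {S X Y : Scheme.{u}} (a : X ⟶ S) (b : Y ⟶ S)
  (P : CochainComplex (pullback a b).Modules ℤ)
  [DCoh.HasLpull (pullback.fst a b)] [DCoh.HasLpull (pullback.snd a b)] [DCoh.HasLTensorCx P]
  [DCoh.HasRpush (pullback.fst a b)] [DCoh.HasRpush (pullback.snd a b)]
  [DCoh.HasRΓ X] [DCoh.HasRΓ Y]

/-- **`RΓ(X, Ψ_P(F) ⊗^L E) ≅ RΓ(Y, Φ_P(E) ⊗^L F)`** for perfect `E` and `F` -/
theorem nonempty_rgamma_fm_symm
    (E : CochainComplex X.Modules ℤ) (hE : DCoh.IsPerfect (DCoh.toD X E)) [DCoh.HasLTensorCx E]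
    (F : CochainComplex Y.Modules ℤ) (hF : DCoh.IsPerfect (DCoh.toD Y F)) [DCoh.HasLTensorCx F] :
    Nonempty ((DCoh.RΓ X).obj ((DCoh.LTensorCx E).obj
        ((DCoh.Lpull (pullback.snd a b) ⋙ DCoh.LTensorCx P ⋙
          DCoh.Rpush (pullback.fst a b)).obj (DCoh.toD Y F))) ≅
      (DCoh.RΓ Y).obj ((DCoh.LTensorCx F).obj ((FMK.phi a b P).obj (DCoh.toD X E)))) := by
  haveI : DCoh.HasRΓ (pullback a b) := Groth.Agent.Helper3.KInjDer.hasRightDerivedFunctor _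
  obtain ⟨PE, pE, hPE, hpE⟩ := kflat_res E
  obtain ⟨PF, pF, hPF, hpF⟩ := kflat_res F
  haveI : IsIso (DerivedCategory.Q.map pE) := (DerivedCategory.isIso_Q_map_iff_quasiIso _ pE).2 hpE
  haveI : IsIso (DerivedCategory.Q.map pF) := (DerivedCategory.isIso_Q_map_iff_quasiIso _ pF).2 hpF
  let E' : CochainComplex (pullback a b).Modules ℤ := (pullCx (pullback.fst a b)).obj PE
  let F' : CochainComplex (pullback a b).Modules ℤ := (pullCx (pullback.snd a b)).obj PF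
  have hE' : DCoh.IsKFlat E' := Groth.Agent.Lib.Helper5.KFlatPull.isKFlat_pullback _ PE hPE
  have hF' : DCoh.IsKFlat F' := Groth.Agent.Lib.Helper5.KFlatPull.isKFlat_pullback _ PF hPF
  haveI : DCoh.HasLTensorCx E' := Groth.Agent.Lib.Helper5.LTenAll.hasLTensorCx _
  haveI : DCoh.HasLTensorCx F' := Groth.Agent.Lib.Helper5.LTenAll.hasLTensorCx _
  let eE : DCoh.toD _ E' ≅ (DCoh.Lpull (pullback.fst a b)).obj (DCoh.toD X E) :=
    (Groth.Agent.Lib.Helper5.ProjF.lpullObjIsoKF (pullback.fst a b) PE hPE).symm ≪≫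
      (DCoh.Lpull (pullback.fst a b)).mapIso (asIso (DerivedCategory.Q.map pE))
  let eF : DCoh.toD _ F' ≅ (DCoh.Lpull (pullback.snd a b)).obj (DCoh.toD Y F) :=
    (Groth.Agent.Lib.Helper5.ProjF.lpullObjIsoKF (pullback.snd a b) PF hPF).symm ≪≫
      (DCoh.Lpull (pullback.snd a b)).mapIso (asIso (DerivedCategory.Q.map pF))
  let A : DCoh.D (pullback a b) :=
    (DCoh.LTensorCx P).obj ((DCoh.Lpull (pullback.snd a b)).obj (DCoh.toD Y F))
  let A' : DCoh.D (pullback a b) :=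
    (DCoh.LTensorCx P).obj ((DCoh.Lpull (pullback.fst a b)).obj (DCoh.toD X E))
  obtain ⟨l1⟩ := nonempty_projFormula_perfect (pullback.fst a b) A E hE E' ⟨eE⟩
  obtain ⟨r1⟩ := nonempty_projFormula_perfect (pullback.snd a b) A' F hF F' ⟨eF⟩
  let l2 := (rpushRgammaIso (pullback.fst a b)).app ((DCoh.LTensorCx E').obj A)
  let r2 := (rpushRgammaIso (pullback.snd a b)).app ((DCoh.LTensorCx F').obj A')
  let mB := midIso P E' F' hE' hF' _ eF.symm
  let mB' := midIso P F' E' hF' hE' _ eE.symm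
  exact ⟨(DCoh.RΓ X).mapIso l1 ≪≫ l2 ≪≫
    (DCoh.RΓ (pullback a b)).mapIso (mB ≪≫ DerivedCategory.Q.mapIso (swapCx P E' F') ≪≫ mB'.symm) ≪≫
    r2.symm ≪≫ (DCoh.RΓ Y).mapIso r1.symm⟩

end Groth.Agent.Lib.Helper5.FMGamma
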